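import Cfsg.Agent.Lib.Helper31.CTI.Defs
import Cfsg.Agent.Lib.Helper71.CTI.Center
import Cfsg.Agent.S1474
import Cfsg.Agent.S0040

/-!
# Project CTI (S4064): module [A-COMPL]  (helper81)
-/

set_option autoImplicit false

namespace Cfsg.Agent.Lib.Helper31.CTI

open Cfsg

variable {G : Type*} [Group G]

/-- [A-COMPL] (CN + landed S1474 + S0040) -/
theorem exists_nilpotent_frobenius_complement [Finite G] (hG : IsCTI G)
    (hnn : ¬ Group.IsNilpotent G) (p : ℕ) [Fact p.Prime] (P : Sylow p G)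
    (hP1 : (P : Subgroup G) ≠ ⊥) (hPn : (P : Subgroup G).Normal) :
    ∃ E : Subgroup G, Cfsg.IsFrobeniusComplement E ∧ Group.IsNilpotent E ∧
      ∀ (q : ℕ) [Fact q.Prime] (Q : Sylow q E),
        IsCyclic Q ∨ ∃ n : ℕ, Nonempty (Q ≃* QuaternionGroup (2 ^ n)) := by
  obtain ⟨hF1, -, ⟨E, hc, hfrob, hfpf⟩, hnilq⟩ :=
    Cfsg.Agent.S1474.result (isCNGroup_of_cti hG) hnn p P hP1 hPn
  refine ⟨E, hfrob, ?_, ?_⟩
  · have e : G ⧸ Cfsg.fittingHall G ≃* E := hc.symm.QuotientMulEquiv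
    exact Group.nilpotent_of_mulEquiv e
  · intro q _ Q
    exact Cfsg.Agent.S0040.result (Cfsg.fittingHall G) E hc hF1 hfpf q Q

end Cfsg.Agent.Lib.Helper31.CTI
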