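import Cfsg.Agent.Lib.Helper31.CTI.Defs
import Cfsg.Agent.S0042
import Cfsg.Agent.S0034

/-!
# Project CTI (S4064): module [NOFROB]  (helper81)
-/

set_option autoImplicit false

namespace Cfsg.Agent.Lib.Helper31.CTI

open Cfsg
open scoped Pointwise

variable {G : Type*} [Group G]

/-- a self-normalizing proper nice block is a Frobenius complement -/
theorem isFrobeniusComplement_of_self_normalizing (M : Subgroup G)
    (hM : IsNiceBlock M) (hself : Subgroup.normalizer (M : Set G) = M) (hMtop : M ≠ ⊤) :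
    Cfsg.IsFrobeniusComplement M := by
  refine ⟨hM.ne_bot, hMtop, ?_⟩
  intro g hg
  rw [eq_bot_iff]
  intro x hx
  rw [Subgroup.mem_bot]
  obtain ⟨hxM, hxg⟩ := Subgroup.mem_inf.mp hx
  rw [Subgroup.mem_pointwise_smul_iff_inv_smul_mem] at hxg
  have hy : g⁻¹ * x * g ∈ M := by
    simpa [MulAut.smul_def, MulAut.conj_inv_apply] using hxg
  have hgN : g ∉ Subgroup.normalizer (M : Set G) := by
    rw [hself]; exact hg
  have h1 := hM.ti g hgN (g⁻¹ * x * g) hy (by
    have : g * (g⁻¹ * x * g) * g⁻¹ = x := by group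
    rw [this]; exact hxM)
  have : x = g * (g⁻¹ * x * g) * g⁻¹ := by group
  rw [this, h1]
  group

/-- [NOFROB] A self-normalizing proper nice block is a Frobenius complement; landed S0042 + S0034
give a nontrivial nilpotent normal subgroup (the Frobenius kernel). -/
theorem exists_normal_nilpotent_of_self_normalizing [Finite G] (M : Subgroup G)
    (hM : IsNiceBlock M) (hself : Subgroup.normalizer (M : Set G) = M) (hMtop : M ≠ ⊤) :
    ∃ K : Subgroup G, K.Normal ∧ Group.IsNilpotent K ∧ K ≠ ⊥ := by
  have hfrob := isFrobeniusComplement_of_self_normalizing M hM hself hMtop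
  obtain ⟨K, hKset, hKn, hKnil⟩ := Cfsg.Agent.S0042.result M hfrob
  refine ⟨K, hKn, hKnil, ?_⟩
  intro hK
  have hcard := (Cfsg.Agent.S0034.result M hfrob).1
  have h1 : Nat.card (Cfsg.frobeniusKernel M) = 1 := by
    rw [← hKset]
    show Nat.card K = 1
    rw [hK, Subgroup.card_bot]
  rw [h1] at hcard
  exact hMtop (Subgroup.index_eq_one.mp hcard.symm)

end Cfsg.Agent.Lib.Helper31.CTI
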