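import Cfsg.Agent.Lib.Helper31.CTI.Defs
import Cfsg.Agent.Lib.Helper81.CTI.NoFrob

/-!
# Project CTI (S4064): module [C-SETUP], `_of` form  (helper81)

`exists_cdata_of`: the statement of [C-SETUP] with the two external inputs as hypotheses:
* `hFT`: the odd order theorem for `G` (landed `Cfsg.Agent.S0205.result`),
* `hblocks`: [BLOCKS] at the prime `2`.
The exact [C-SETUP] wrapper is `CSetup.lean`.
-/

set_option autoImplicit false

namespace Cfsg.Agent.Lib.Helper31.CTI

open Cfsg
open scoped commutatorElement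

variable {G : Type*} [Group G]

/-- A nontrivial solvable group has a nontrivial abelian normal subgroup (the last nontrivial term
of the derived series). -/
theorem exists_normal_comm_of_isSolvable_h81 [Nontrivial G] (h : Group.IsSolvable G) :
    ∃ K : Subgroup G, K.Normal ∧ K ≠ ⊥ ∧ ∀ a ∈ K, ∀ b ∈ K, a * b = b * a := by
  classical
  have hex : ∃ n : ℕ, derivedSeries G n = ⊥ := h.solvable
  have hm : derivedSeries G (Nat.find hex) = ⊥ := Nat.find_spec hex
  have hm0 : Nat.find hex ≠ 0 := by
    intro h0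
    rw [h0, derivedSeries_zero] at hm
    exact top_ne_bot hm
  obtain ⟨k, hk⟩ := Nat.exists_eq_succ_of_ne_zero hm0
  refine ⟨derivedSeries G k, inferInstance, ?_, ?_⟩
  · intro hb
    exact Nat.find_min hex (m := k) (by omega) hb
  · intro a ha b hb
    have hc : ⁅a, b⁆ ∈ derivedSeries G (k + 1) := by
      rw [derivedSeries_succ]
      exact Subgroup.commutator_mem_commutator ha hb
    rw [← Nat.succ_eq_add_one, ← hk, hm, Subgroup.mem_bot] at hc
    exact commutatorElement_eq_one_iff_mul_comm.mp hc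

/-- An abelian subgroup is nilpotent. -/
theorem isNilpotent_of_comm_h81 (K : Subgroup G) (hab : ∀ a ∈ K, ∀ b ∈ K, a * b = b * a) :
    Group.IsNilpotent K := by
  have : IsMulCommutative K := ⟨⟨fun a b => Subtype.ext (hab a a.2 b b.2)⟩⟩
  exact ⟨⟨1, Subgroup.upperCentralSeries_one_eq_top_iff.mpr this⟩⟩

/-- [C-SETUP], `_of` form: the odd order theorem for `G` and [BLOCKS] at `p = 2` are hypotheses. -/
theorem exists_cdata_of [Finite G]
    (hFT : Odd (Nat.card G) → Group.IsSolvable G)
    (hblocks : ∀ P : Sylow 2 G, (P : Subgroup G) ≠ ⊥ →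
      ∃ M : Subgroup G, IsNiceBlock M ∧ (P : Subgroup G) ≤ M)
    (hnn : ¬ Group.IsNilpotent G)
    (hF : ∀ K : Subgroup G, K.Normal → Group.IsNilpotent K → K = ⊥) :
    ∃ M N : Subgroup G, CData M N := by
  have hnoab : ∀ K : Subgroup G, K.Normal → (∀ a ∈ K, ∀ b ∈ K, a * b = b * a) → K = ⊥ :=
    fun K hKn hab => hF K hKn (isNilpotent_of_comm_h81 K hab)
  have hnt : Nontrivial G := by
    by_contra h
    rw [not_nontrivial_iff_subsingleton] at h
    exact hnn inferInstance
  have heven : Even (Nat.card G) := by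
    by_contra hodd
    rw [Nat.not_even_iff_odd] at hodd
    obtain ⟨K, hKn, hK1, hKab⟩ := exists_normal_comm_of_isSolvable_h81 (hFT hodd)
    exact hK1 (hnoab K hKn hKab)
  have h2 : 2 ∣ Nat.card G := heven.two_dvd
  have P : Sylow 2 G := default
  have hP1 : (P : Subgroup G) ≠ ⊥ := P.ne_bot_of_dvd_card h2
  obtain ⟨M, hM, hPM⟩ := hblocks P hP1
  have hMtop : M ≠ ⊤ := by
    intro htop
    apply hnn
    have := hM.nil
    rw [htop] at this
    exact Group.nilpotent_of_mulEquiv Subgroup.topEquiv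
  refine ⟨M, Subgroup.normalizer (M : Set G), hM, rfl, ?_, ?_, ?_, hnoab⟩
  · have h2P : 2 ∣ Nat.card P := P.dvd_card_of_dvd_card h2
    exact even_iff_two_dvd.mpr (h2P.trans (Subgroup.card_dvd_of_le hPM))
  · intro hMN
    obtain ⟨K, hKn, hKnil, hK1⟩ :=
      exists_normal_nilpotent_of_self_normalizing M hM hMN.symm hMtop
    exact hK1 (hF K hKn hKnil)
  · intro hN
    have hMn : M.Normal := Subgroup.normalizer_eq_top_iff.mp hN
    exact hM.ne_bot (hF M hMn hM.nil)

end Cfsg.Agent.Lib.Helper31.CTI
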