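import Cfsg.Agent.Lib.Helper31.CTI.Defs
import Cfsg.Agent.Lib.Helper81.CTI.CSetupOf
import Cfsg.Agent.Lib.Helper78.CTI.Blocks
import Cfsg.Agent.S0205

/-!
# Project CTI (S4064): module [C-SETUP], exact statement  (helper81)

`exists_cdata_of` (CSetupOf.lean) + landed S0205 (odd order theorem) + [BLOCKS] (helper78).
-/

set_option autoImplicit false

namespace Cfsg.Agent.Lib.Helper31.CTI

open Cfsg

variable {G : Type*} [Group G]

/-- [C-SETUP] (landed S0205 for evenness, BLOCKS at p = 2, NOFROB.) -/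
theorem exists_cdata [Finite G] (hG : IsCTI G) (hnn : ¬ Group.IsNilpotent G)
    (hF : ∀ K : Subgroup G, K.Normal → Group.IsNilpotent K → K = ⊥) :
    ∃ M N : Subgroup G, CData M N :=
  exists_cdata_of (fun hodd => Cfsg.Agent.S0205.result hodd)
    (fun P hP => exists_niceBlock hG 2 P hP) hnn hF

end Cfsg.Agent.Lib.Helper31.CTI
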